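import Mathlib

/-!
Lengths of quotients by powers of ideals (node LEN of the Fujita freeness plan of helper633).

* `K268.Len.length_quot_sup_pow_le`: `length R/(J + (h_1..h_d)^j) ≤ C(j+d-1,d) * length R/(J+(h_1..h_d))`.
* `K268.Len.length_quot_maximalIdeal_pow_le`: `length R/m^j ≤ C(j+d-1,d) * length R/(h_1..h_d)` for `h_i ∈ m`.
* `K268.Len.length_quot_le_of_pow_le`: if `m = (h) + (x_1..x_r)` and `m^e ≤ I + (h)` then
  `length R/(I+(h)) ≤ C(e+r-1,r)`.
-/

set_option autoImplicit false

open Module

namespace Groth.Agent.AdjLin.K268.Len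

universe u v

section Exact

variable {R : Type u} [Ring R] {A B C : Type*} [AddCommGroup A] [AddCommGroup B] [AddCommGroup C]
  [Module R A] [Module R B] [Module R C]

/-- Right exactness gives `length B ≤ length A + length C`. -/
theorem length_le_add (f : A →ₗ[R] B) (g : B →ₗ[R] C) (hg : Function.Surjective g)
    (h : LinearMap.ker g ≤ LinearMap.range f) :
    length R B ≤ length R A + length R C := by
  have h1 : length R B = length R (LinearMap.ker g) + length R C :=
    Module.length_eq_add_of_exact (LinearMap.ker g).subtype g (Submodule.subtype_injective _) hg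
      (by rw [LinearMap.exact_iff]; simp)
  have h2 : length R (LinearMap.ker g) ≤ length R (LinearMap.range f) :=
    Module.length_le_of_injective (Submodule.inclusion h) (Submodule.inclusion_injective h)
  have h3 : length R (LinearMap.range f) ≤ length R A :=
    Module.length_le_of_surjective f.rangeRestrict f.surjective_rangeRestrict
  rw [h1]
  gcongr
  exact h2.trans h3

end Exact

section Comm

variable {R : Type u} [CommRing R]

/-- Quotients by larger ideals are shorter. -/
theorem length_quot_le {I J : Ideal R} (h : I ≤ J) : length R (R ⧸ J) ≤ length R (R ⧸ I) :=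
  Module.length_le_of_surjective (Submodule.factor h) (Submodule.factor_surjective h)

/-- The basic step: `length R/K ≤ length R/I + length R/(K+(a))` when `a I ≤ K`. -/
theorem length_quot_le_add (I K : Ideal R) (a : R) (h : ∀ x ∈ I, a * x ∈ K) :
    length R (R ⧸ K) ≤ length R (R ⧸ I) + length R (R ⧸ (K ⊔ Ideal.span {a})) := by
  have hI : I ≤ Submodule.comap (LinearMap.mulLeft R a) K := fun x hx => h x hx
  refine length_le_add (Submodule.mapQ I K (LinearMap.mulLeft R a) hI)
    (Submodule.factor (le_sup_left : K ≤ K ⊔ Ideal.span {a})) (Submodule.factor_surjective _) ?_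
  intro y hy
  obtain ⟨y, rfl⟩ := Submodule.Quotient.mk_surjective _ y
  rw [LinearMap.mem_ker] at hy
  have hy' : y ∈ K ⊔ Ideal.span {a} := by
    rw [← Submodule.Quotient.mk_eq_zero]
    exact hy
  obtain ⟨u, hu, v, hv, rfl⟩ := Submodule.mem_sup.1 hy'
  obtain ⟨w, rfl⟩ := Ideal.mem_span_singleton'.1 hv
  refine ⟨Submodule.Quotient.mk w, ?_⟩
  rw [Submodule.mapQ_apply]
  change Submodule.Quotient.mk (a * w) = _
  rw [Submodule.Quotient.eq]
  have : a * w - (u + w * a) = -u := by ring
  rw [this]
  exact K.neg_mem hu

theorem sup_pow_le (I J : Ideal R) (n : ℕ) : (I ⊔ J) ^ n ≤ I ⊔ J ^ n := by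
  induction n with
  | zero => simp [Ideal.one_eq_top]
  | succ n ih =>
    rw [pow_succ]
    refine (Ideal.mul_mono_left ih).trans ?_
    rw [Ideal.sup_mul, Ideal.mul_sup (J ^ n), pow_succ]
    refine sup_le (Ideal.mul_le_left.trans le_sup_left) (sup_le ?_ le_sup_right)
    exact Ideal.mul_le_right.trans le_sup_left

/-- `length R/(J + (h)^j) ≤ C(j+d-1,d) * length R/(J+(h))`. -/
theorem length_quot_sup_pow_le {d : ℕ} (h : Fin d → R) (J : Ideal R) (j : ℕ) :
    length R (R ⧸ (J ⊔ Ideal.span (Set.range h) ^ j)) ≤
      ((j + d - 1).choose d : ℕ) * length R (R ⧸ (J ⊔ Ideal.span (Set.range h))) := by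
  induction d generalizing J j with
  | zero =>
    have h0 : Ideal.span (Set.range h) = ⊥ := by
      rw [Set.range_eq_empty]; simp
    rw [h0]
    rcases Nat.eq_zero_or_pos j with rfl | hj
    · have : Subsingleton (R ⧸ (J ⊔ (⊥ : Ideal R) ^ 0)) := by
        rw [Submodule.Quotient.subsingleton_iff]
        simp [Ideal.one_eq_top]
      rw [Module.length_eq_zero]
      exact zero_le
    · have : (⊥ : Ideal R) ^ j = ⊥ := by
        rw [← Ideal.zero_eq_bot, zero_pow hj.ne']
      rw [this]
      simp
  | succ d ih =>
    induction j with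
    | zero =>
      have : Subsingleton (R ⧸ (J ⊔ Ideal.span (Set.range h) ^ 0)) := by
        rw [Submodule.Quotient.subsingleton_iff]
        simp [Ideal.one_eq_top]
      rw [Module.length_eq_zero]
      exact zero_le
    | succ j ihj =>
      set I := Ideal.span (Set.range h) with hIdef
      set I' := Ideal.span (Set.range (Fin.tail h)) with hI'def
      have hI : I = Ideal.span {h 0} ⊔ I' := by
        rw [hIdef, hI'def, ← Ideal.span_union]
        congr 1
        conv_lhs => rw [← Fin.cons_self_tail h]
        rw [Fin.range_cons]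
        rfl
      have ha : h 0 ∈ I := Ideal.subset_span ⟨0, rfl⟩
      have step := length_quot_le_add (J ⊔ I ^ j) (J ⊔ I ^ (j + 1)) (h 0) (by
        intro x hx
        obtain ⟨u, hu, v, hv, rfl⟩ := Submodule.mem_sup.1 hx
        rw [mul_add]
        refine Submodule.add_mem_sup (J.mul_mem_left _ hu) ?_
        rw [pow_succ']
        exact Ideal.mul_mem_mul ha hv)
      have hsup : J ⊔ I ^ (j + 1) ⊔ Ideal.span {h 0} = (J ⊔ Ideal.span {h 0}) ⊔ I' ^ (j + 1) := by
        apply le_antisymm
        · refine sup_le (sup_le (le_sup_left.trans le_sup_left) ?_) (le_sup_right.trans le_sup_left)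
          rw [hI]
          calc (Ideal.span {h 0} ⊔ I') ^ (j + 1) ≤ Ideal.span {h 0} ⊔ I' ^ (j + 1) := by
                exact sup_pow_le _ _ _
            _ ≤ _ := sup_le (le_sup_right.trans le_sup_left) le_sup_right
        · refine sup_le (sup_le (le_sup_left.trans le_sup_left) le_sup_right) ?_
          refine le_trans ?_ (le_sup_right.trans le_sup_left)
          exact Ideal.pow_right_mono (hI ▸ le_sup_right) _
      rw [hsup] at step
      have ih1 := ih (Fin.tail h) (J ⊔ Ideal.span {h 0}) (j + 1)
      rw [← hI'def, sup_assoc J (Ideal.span {h 0}) I', ← hI] at ih1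
      refine step.trans ?_
      refine (add_le_add ihj ih1).trans ?_
      rw [← add_mul]
      gcongr
      rw [← Nat.cast_add]
      gcongr
      have e1 : j + (d + 1) - 1 = j + d := by omega
      have e2 : j + 1 + d - 1 = j + d := by omega
      have e3 : j + 1 + (d + 1) - 1 = j + d + 1 := by omega
      rw [e1, e2, e3, Nat.choose_succ_succ, Nat.succ_eq_add_one, add_comm]

/-- `length R/(h)^j ≤ C(j+d-1,d) * length R/(h)`. -/
theorem length_quot_pow_le {d : ℕ} (h : Fin d → R) (j : ℕ) :
    length R (R ⧸ (Ideal.span (Set.range h) ^ j)) ≤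
      ((j + d - 1).choose d : ℕ) * length R (R ⧸ Ideal.span (Set.range h)) := by
  have := length_quot_sup_pow_le h ⊥ j
  rwa [bot_sup_eq, bot_sup_eq] at this

/-- If `(h_1..h_d) ≤ m` then `length R/m^j ≤ C(j+d-1,d) * length R/(h_1..h_d)`. -/
theorem length_quot_pow_le_of_le {d : ℕ} (h : Fin d → R) (m : Ideal R)
    (hm : Ideal.span (Set.range h) ≤ m) (j : ℕ) :
    length R (R ⧸ (m ^ j)) ≤
      ((j + d - 1).choose d : ℕ) * length R (R ⧸ Ideal.span (Set.range h)) :=
  (length_quot_le (Ideal.pow_right_mono hm j)).trans (length_quot_pow_le h j)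

end Comm

section Local

variable {R : Type u} [CommRing R] [IsLocalRing R]

open IsLocalRing

theorem length_quot_maximalIdeal_pow_le {d : ℕ} (h : Fin d → R) (hm : ∀ i, h i ∈ maximalIdeal R)
    (j : ℕ) :
    length R (R ⧸ (maximalIdeal R ^ j)) ≤
      ((j + d - 1).choose d : ℕ) * length R (R ⧸ Ideal.span (Set.range h)) :=
  length_quot_pow_le_of_le h _ (Ideal.span_le.2 (by rintro _ ⟨i, rfl⟩; exact hm i)) j

theorem length_quot_maximalIdeal : length R (R ⧸ maximalIdeal R) = 1 := by
  rw [Module.length_eq_one_iff]
  exact isSimpleModule_iff_isCoatom.2 (maximalIdeal.isMaximal R).out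

/-- If `m = H + (x_1..x_r)` and `m^e ≤ I + H` then `length R/(I+H) ≤ C(e+r-1,r)`. -/
theorem length_quot_le_choose {r e : ℕ} (H I : Ideal R) (x : Fin r → R)
    (hx : maximalIdeal R = H ⊔ Ideal.span (Set.range x))
    (he : maximalIdeal R ^ e ≤ I ⊔ H) :
    length R (R ⧸ (I ⊔ H)) ≤ ((e + r - 1).choose r : ℕ) := by
  have h1 : H ⊔ Ideal.span (Set.range x) ^ e ≤ I ⊔ H :=
    sup_le le_sup_right ((Ideal.pow_right_mono (by rw [hx]; exact le_sup_right) e).trans he)
  refine (length_quot_le h1).trans ((length_quot_sup_pow_le x H e).trans ?_)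
  rw [← hx, length_quot_maximalIdeal, mul_one]

/-- A family in `m` with linearly independent classes in `m/m²` extends to a generating system of `m` with
`dim m/m² - d` further elements. -/
theorem exists_compl [IsNoetherianRing R] {d n : ℕ} (h : Fin d → maximalIdeal R)
    (hli : LinearIndependent (ResidueField R) fun i => (maximalIdeal R).toCotangent (h i))
    (hn : Module.finrank (ResidueField R) (CotangentSpace R) = n) :
    ∃ x : Fin (n - d) → R, (∀ i, x i ∈ maximalIdeal R) ∧
      maximalIdeal R = Ideal.span (Set.range fun i => (h i : R)) ⊔ Ideal.span (Set.range x) := by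
  classical
  set V := CotangentSpace R
  set hb : Fin d → V := fun i => (maximalIdeal R).toCotangent (h i) with hbdef
  set W : Submodule (ResidueField R) V := Submodule.span _ (Set.range hb) with hW
  have hWd : Module.finrank (ResidueField R) W = d := by
    rw [hW, finrank_span_eq_card hli, Fintype.card_fin]
  have hq : Module.finrank (ResidueField R) (V ⧸ W) = n - d := by
    have := Submodule.finrank_quotient_add_finrank W
    rw [hWd, hn] at this
    omega
  let b := Module.finBasisOfFinrankEq (ResidueField R) (V ⧸ W) hq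
  have hlift : ∀ i, ∃ y : maximalIdeal R, W.mkQ ((maximalIdeal R).toCotangent y) = b i := by
    intro i
    obtain ⟨v, hv⟩ := W.mkQ_surjective (b i)
    obtain ⟨y, rfl⟩ := (maximalIdeal R).toCotangent_surjective v
    exact ⟨y, hv⟩
  choose y hy using hlift
  refine ⟨fun i => y i, fun i => (y i).2, ?_⟩
  have key : Submodule.span (ResidueField R) ((maximalIdeal R).toCotangent ''
      (Set.range h ∪ Set.range y)) = ⊤ := by
    rw [Set.image_union, Submodule.span_union, ← Set.range_comp, ← Set.range_comp]
    change W ⊔ _ = ⊤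
    rw [← Submodule.map_mkQ_eq_top, Submodule.map_span, ← Set.range_comp]
    have hb : (W.mkQ ∘ (⇑(maximalIdeal R).toCotangent ∘ y)) = b := funext fun i => hy i
    rw [hb]
    exact b.span_eq
  rw [CotangentSpace.span_image_eq_top_iff] at key
  have key2 := congrArg (Submodule.map (maximalIdeal R).subtype) key
  rw [Submodule.map_span, Submodule.map_top, Submodule.range_subtype, Set.image_union,
    ← Set.range_comp, ← Set.range_comp, Submodule.span_union] at key2
  exact key2.symm

/-- The estimate behind the Skoda step: `m` generated by `n` elements, `h_1..h_d` with independent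
classes in `m/m²`, `m^e ≤ I + (h)` imply `length R/(I+(h)) ≤ C(e+n-d-1,n-d)`. -/
theorem length_quot_le_choose_of_linearIndependent [IsNoetherianRing R] {d n e : ℕ}
    (h : Fin d → maximalIdeal R)
    (hli : LinearIndependent (ResidueField R) fun i => (maximalIdeal R).toCotangent (h i))
    (hn : Module.finrank (ResidueField R) (CotangentSpace R) = n) (I : Ideal R)
    (he : maximalIdeal R ^ e ≤ I ⊔ Ideal.span (Set.range fun i => (h i : R))) :
    length R (R ⧸ (I ⊔ Ideal.span (Set.range fun i => (h i : R)))) ≤
      ((e + (n - d) - 1).choose (n - d) : ℕ) := by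
  obtain ⟨x, -, hx⟩ := exists_compl h hli hn
  exact length_quot_le_choose _ I x hx he

/-- Combination: `length R/(I+m^j) ≤ C(j+d-1,d) * C(e+n-d-1,n-d)`. -/
theorem length_quot_sup_maximalIdeal_pow_le [IsNoetherianRing R] {d n e : ℕ}
    (h : Fin d → maximalIdeal R)
    (hli : LinearIndependent (ResidueField R) fun i => (maximalIdeal R).toCotangent (h i))
    (hn : Module.finrank (ResidueField R) (CotangentSpace R) = n) (I : Ideal R)
    (he : maximalIdeal R ^ e ≤ I ⊔ Ideal.span (Set.range fun i => (h i : R))) (j : ℕ) :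
    length R (R ⧸ (I ⊔ maximalIdeal R ^ j)) ≤
      ((j + d - 1).choose d * (e + (n - d) - 1).choose (n - d) : ℕ) := by
  have h0 : Ideal.span (Set.range fun i => (h i : R)) ≤ maximalIdeal R :=
    Ideal.span_le.2 (by rintro _ ⟨i, rfl⟩; exact (h i).2)
  have h1 : I ⊔ Ideal.span (Set.range fun i => (h i : R)) ^ j ≤ I ⊔ maximalIdeal R ^ j :=
    sup_le_sup_left (Ideal.pow_right_mono h0 j) _
  refine (length_quot_le h1).trans ((length_quot_sup_pow_le _ I j).trans ?_)
  rw [Nat.cast_mul]
  gcongr
  exact length_quot_le_choose_of_linearIndependent h hli hn I he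

end Local

end Groth.Agent.AdjLin.K268.Len
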