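import Groth.Agent.AdjLin.K268.MultVan
import Mathlib.Topology.Algebra.Order.Floor
import Mathlib.Topology.Instances.Rat

/-!
# The node `NMult`

`core`: Skoda's theorem gives `m_x^(d + 1 - b) ⊆ (h) + I_W` for `b - 1 < β`, `b ≤ d + 1`.
`nMult`: the node.
-/

set_option autoImplicit false
set_option linter.unusedSectionVars false
set_option linter.unusedVariables false
universe u

open CategoryTheory CategoryTheory.Limits AlgebraicGeometry TopologicalSpace Opposite

noncomputable section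

namespace K268.Mult

open Groth.Agent Groth.Agent.Divis.CartierBasic Groth.Agent.Divis.CartierStalk K633.Fuj
open K577.Lat K577.LatIdeal K577.SkodaCore K577.Skoda K577.SkodaEnd
open scoped Topology

/-- small positive rationals -/
theorem exists_small {ι : Type*} [Finite ι] (a c : ι → ℚ) (hc : ∀ i, 0 < c i) {u : ℚ} (hu : 0 < u) :
    ∃ s : ℚ, 0 < s ∧ s < u ∧ ∀ i, s * a i < c i := by
  have h1 : ∀ᶠ s in 𝓝[>] (0:ℚ), 0 < s := self_mem_nhdsWithin
  have h2 : ∀ᶠ s in 𝓝[>] (0:ℚ), s < u := (eventually_lt_nhds hu).filter_mono nhdsWithin_le_nhds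
  have h3 : ∀ᶠ s in 𝓝[>] (0:ℚ), ∀ i, s * a i < c i := by
    rw [Filter.eventually_all]
    intro i
    have h4 : Filter.Tendsto (fun s : ℚ => s * a i) (𝓝 0) (𝓝 0) := by
      have h5 : Continuous fun s : ℚ => s * a i := continuous_id.mul continuous_const
      have h6 := h5.tendsto 0
      rwa [zero_mul] at h6
    exact (h4.eventually_lt_const (hc i)).filter_mono nhdsWithin_le_nhds
  exact (h1.and (h2.and h3)).exists

variable {k : Type u} [Field k] {X : Scheme.{u}} {p : X ⟶ Spec (CommRingCat.of k)} {n : ℕ} {L : X.Modules}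

/-- lower one coefficient of a boundary -/
def lower (B : Bd L) (j₀ : Fin B.m) (ζ : ℚ) (h : ζ ≤ B.c j₀) : Bd L where
  m := B.m
  I := B.I
  a := B.a
  c := Function.update B.c j₀ (B.c j₀ - ζ)
  ne := B.ne
  gg := B.gg
  nonneg := fun j => by
    by_cases hj : j = j₀
    · subst hj
      rw [Function.update_self]
      linarith
    · rw [Function.update_of_ne hj]
      exact B.nonneg j

theorem lower_o (B : Bd L) (j₀ : Fin B.m) (ζ : ℚ) (h : ζ ≤ B.c j₀) (M : Model p) (i : Fin M.r) :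
    (lower B j₀ ζ h).o M i = B.o M i - ζ * M.o (B.I j₀) i := by
  rw [Bd.o, Bd.o]
  change ∑ j : Fin B.m, Function.update B.c j₀ (B.c j₀ - ζ) j * (M.o (B.I j) i : ℚ) = _
  rw [← Finset.add_sum_erase _ _ (Finset.mem_univ j₀), ← Finset.add_sum_erase _ _ (Finset.mem_univ j₀),
    Function.update_self]
  have h1 : ∑ j ∈ Finset.univ.erase j₀, Function.update B.c j₀ (B.c j₀ - ζ) j * (M.o (B.I j) i : ℚ) =
      ∑ j ∈ Finset.univ.erase j₀, B.c j * (M.o (B.I j) i : ℚ) :=
    Finset.sum_congr rfl fun j hj => by rw [Function.update_of_ne (Finset.ne_of_mem_erase hj)]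
  rw [h1]
  ring

theorem o_nonneg (B : Bd L) (M : Model p) (i : Fin M.r) : 0 ≤ B.o M i :=
  Finset.sum_nonneg fun j _ => mul_nonneg (B.nonneg j) (Nat.cast_nonneg _)

theorem ptI_ne_bot (C : Ctx p n L) {x w : X} (hx : IsClosed ({x} : Set X)) (hwx : w ⤳ x) (hne : w ≠ x) :
    ptI x ≠ ⊥ := by
  have := C.int
  intro h
  have h1 : genericPoint X ∈ (ptI x).support := by
    rw [h, Scheme.IdealSheafData.support_bot]
    trivial
  rw [K369.Loc.mem_support_ptI] at h1
  have h2 : genericPoint X = x := h1.mem_closed hx (Set.mem_singleton x)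
  have h3 : x ⤳ w := h2 ▸ genericPoint_specializes w
  exact hne (h3.mem_closed hx (Set.mem_singleton x))

/-- **Skoda's theorem for a state.** -/
theorem core (C : Ctx p n L) (hJac : NJac p n) (hV : NVanL p n L) (M : Model p) (B : Bd L) (x w : X)
    (hLc : Lc M B x w) {d : ℕ} (hd : topologicalKrullDim (closure {w} : Set X) = d)
    (hj : ∃ j, B.I j = ptI w ∧ 0 < B.c j) {β : ℚ} (hβ : ∀ i, M.c i = x → β * M.o (ptI x) i ≤ B.ld M i)
    {b : ℕ} (hb1 : 1 ≤ b) (hbd : b ≤ d + 1) (hbβ : ((b - 1 : ℕ) : ℚ) < β)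
    (h : Fin d → X.presheaf.stalk x) (hh : ∀ i, h i ∈ stalkIdeal (ptI x) x) (l : ℕ)
    (hred : stalkIdeal (ptI x) x ^ (l + 1) ≤
      Ideal.span (Set.range h) * stalkIdeal (ptI x) x ^ l ⊔ stalkIdeal (ptI w) x) :
    stalkIdeal (ptI x) x ^ (d + 1 - b) ≤ Ideal.span (Set.range h) ⊔ stalkIdeal (ptI w) x := by
  classical
  have hI := C.int
  have hN := locNoeth C
  obtain ⟨j₀, hj₀, hcj₀⟩ := hj
  have hx0 := ptI_ne_bot C hLc.closed hLc.spec hLc.ne
  have hd0 : 0 < d := one_le_dim hLc.spec hLc.ne hLc.closed hd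
  obtain ⟨a, ha⟩ := K699.Conn.exists_gg C (ptI x)
  -- orders
  have hmx : ∀ i, M.c i = x → 0 < M.o (ptI x) i := fun i hi => o_pos M hLc.monx (by
    rw [hi, K369.Loc.mem_support_ptI])
  have hm0 : ∀ i, M.c i ≠ x → M.o (ptI x) i = 0 := by
    intro i hi
    refine K699.Conn.o_eq_zero M fun h => hi ?_
    rw [K369.Loc.mem_support_ptI] at h
    exact h.mem_closed hLc.closed (Set.mem_singleton x)
  have hWw : ∀ i, M.c i = w → 0 < M.o (ptI w) i := fun i hi => o_pos M hLc.monw (by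
    rw [hi, K369.Loc.mem_support_ptI])
  -- the small numbers
  obtain ⟨s, hs0, hsβ, hs⟩ := exists_small (fun i => (M.o (ptI x) i : ℚ))
    (fun i => (⌊B.o M i⌋₊ : ℚ) + 1 - B.o M i) (fun i => by
      have := Nat.lt_floor_add_one (B.o M i)
      linarith) (sub_pos.2 hbβ)
  obtain ⟨ζ, hζ0, hζc, hζ⟩ := exists_small (fun i => (M.o (ptI w) i : ℚ))
    (fun i => if M.c i = x then s * M.o (ptI x) i else 1) (fun i => by
      split_ifs with hi
      · exact mul_pos hs0 (Nat.cast_pos.2 (hmx i hi))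
      · exact one_pos) hcj₀
  let B₀ := K699.Conn.add B (ptI x) a s hx0 ha hs0.le
  let B₁ := K699.Conn.add (lower B j₀ ζ hζc.le) (ptI x) a s hx0 ha hs0.le
  have hB₀ : ∀ i, B₀.o M i = s * M.o (ptI x) i + B.o M i := fun i => K699.Conn.add_o _ _ _ _ _ _ _ M i
  have hB₁ : ∀ i, B₁.o M i = s * M.o (ptI x) i + (B.o M i - ζ * M.o (ptI w) i) := fun i => by
    rw [← hj₀, ← lower_o B j₀ ζ hζc.le M i]
    exact K699.Conn.add_o _ _ _ _ _ _ _ M i
  have hB₀m : B₀.IsMon M := K699.Conn.add_isMon B (ptI x) a s hx0 ha hs0.le M hLc.monx hLc.monB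
  have hB₁m : B₁.IsMon M := K699.Conn.add_isMon (lower B j₀ ζ hζc.le) (ptI x) a s hx0 ha hs0.le M hLc.monx hLc.monB
  let e₀ : Fin M.r → ℕ := fun i => ⌊B₀.o M i⌋₊
  let e₁ : Fin M.r → ℕ := fun i => ⌊B₁.o M i⌋₊
  have hWn : ∀ i, (0 : ℚ) ≤ ζ * M.o (ptI w) i := fun i => mul_nonneg hζ0.le (Nat.cast_nonneg _)
  have hle : ∀ i, B₁.o M i ≤ B₀.o M i := fun i => by
    rw [hB₀, hB₁]
    linarith [hWn i]
  have he : ∀ i, e₁ i ≤ e₀ i := fun i => Nat.floor_le_floor (hle i)
  -- where they differ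
  have hlt : ∀ i, e₁ i < e₀ i → w ⤳ M.c i ∧ M.c i ≠ x := by
    intro i hi
    constructor
    · by_contra hc
      have h1 : M.o (ptI w) i = 0 := K699.Conn.o_eq_zero M (by rwa [K369.Loc.mem_support_ptI])
      have h2 : B₁.o M i = B₀.o M i := by
        rw [hB₀, hB₁, h1, Nat.cast_zero, mul_zero, sub_zero]
      exact absurd hi (by simp only [e₀, e₁, h2, lt_irrefl, not_false_iff])
    · intro hc
      have h1 := hζ i
      simp only [hc, if_true] at h1
      have h2 : ⌊B.o M i⌋₊ ≤ e₁ i := Nat.floor_le_floor (by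
        rw [hB₁]
        linarith)
      have h3 : e₀ i ≤ ⌊B.o M i⌋₊ := by
        refine Nat.lt_succ_iff.1 ((Nat.floor_lt' (Nat.succ_ne_zero _)).2 ?_)
        have := hs i
        rw [hB₀]
        push_cast
        linarith
      omega
  -- the neighbourhood
  obtain ⟨U₀, hxU₀, hvan⟩ := exists_van C hJac hV M x hx0 hLc.monx
  obtain ⟨N, hN₀, hxN, -, hcen⟩ := K699.Conn.exists_nbhd M x U₀ hxU₀
  obtain ⟨i₀, hi₀, hi₀'⟩ := hLc.ex
  have hei₀ : e₀ i₀ = M.A i₀ := by
    have h1 : M.o (ptI x) i₀ = 0 := hm0 i₀ (by rw [hi₀]; exact hLc.ne)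
    have h2 : B.o M i₀ = M.A i₀ := by
      rw [Bd.ld] at hi₀'
      linarith
    change ⌊B₀.o M i₀⌋₊ = _
    rw [hB₀, h1, h2, Nat.cast_zero, mul_zero, zero_add, Nat.floor_natCast]
  refine K577.SkodaEnd2.main' M.μ (map_gen C M) (isEff_J C M) (exists_section C M) (isEff_E M) M.irr
    (M := ptI x) (m := M.o (ptI x)) hLc.monx (ptI w) he (fun i hi => K369.Loc.comap_ptI_le M i (hlt i hi).1)
    (fun i hi => ⟨M.gp i, K699.Conn.gp_mem M i, ?_⟩) hd0 hb1 hbd x N hxN ?_ ?_ ?_ ?_ h hh l hred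
  · refine (notMem_support_iff_stalkIdeal_eq_top _ _).1 fun hc => (hlt i hi).2 ?_
    rw [K369.Loc.mem_support_ptI] at hc
    exact hc.mem_closed hLc.closed (Set.mem_singleton x)
  · intro y hy
    refine K699.Conn.one_mem_fr C M fun i hi => ?_
    have hcx := hcen i y hi hy
    have hA : M.A i ≠ 0 := by rw [Model.A]; omega
    change e₁ i + (b - 1) * M.o (ptI x) i < M.A i
    by_cases hc : M.c i = x
    · have h1 : (e₁ i : ℚ) ≤ B₁.o M i := Nat.floor_le (o_nonneg B₁ M i)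
      have h2 := hβ i hc
      rw [Bd.ld] at h2
      have h3 : (0 : ℚ) < M.o (ptI x) i := Nat.cast_pos.2 (hmx i hc)
      have h4 : (e₁ i : ℚ) + ((b - 1 : ℕ) : ℚ) * M.o (ptI x) i < M.A i := by
        rw [hB₁] at h1
        have h5 := hWn i
        have h6 : (s + ((b - 1 : ℕ) : ℚ)) * M.o (ptI x) i < β * M.o (ptI x) i :=
          mul_lt_mul_of_pos_right (by linarith) h3
        nlinarith
      exact_mod_cast h4
    · rw [hm0 i hc, mul_zero, add_zero]
      change ⌊B₁.o M i⌋₊ < _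
      rw [Nat.floor_lt' hA, hB₁, hm0 i hc, Nat.cast_zero, mul_zero, zero_add]
      have h1 := hLc.nonneg i hcx
      rcases h1.lt_or_eq with h2 | h2
      · rw [Bd.ld] at h2
        linarith [hWn i]
      · have h3 := hLc.centre i hcx h2.symm
        have h4 : (0 : ℚ) < ζ * M.o (ptI w) i := mul_pos hζ0 (Nat.cast_pos.2 (hWw i h3))
        rw [Bd.ld] at h2
        linarith
  · intro U hη hUN hxU t ht
    exact mem_ptI_of_mem_colon C M hei₀ hi₀ U hη (hLc.spec.mem_open U.1.2 hxU) t ht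
  · intro U hUN hxU j _ q hq
    exact hvan U (hUN.trans hN₀) B₁ hB₁m j q hq
  · intro U hUN hxU j _ q hq
    exact hvan U (hUN.trans hN₀) B₀ hB₀m j q hq

/-- **The node `NMult`.** -/
theorem nMult [IsAlgClosed k] [CharZero k] (C : Ctx p n L) (hJac : NJac p n) (hV : NVanL p n L) : NMult p n L := by
  intro M B x w hLc d hd hj β hβ0 hβ
  have hI := C.int
  have hreg := regular C x
  have hinf := infinite_residueField C x
  have hn := dim_stalk C x hLc.closed
  have hdq := dim_quot C hLc.closed hLc.spec hd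
  have hd0 : 0 < d := one_le_dim hLc.spec hLc.ne hLc.closed hd
  have hP : stalkIdeal (ptI w) x ≠ ⊤ :=
    (mem_support_iff_stalkIdeal_ne_top _ _).1 ((K369.Loc.mem_support_ptI w x).2 hLc.spec)
  have hmx := K369.Loc.stalkIdeal_ptI x
  have hdn : d ≤ n := by
    have h1 : ringKrullDim (X.presheaf.stalk x ⧸ stalkIdeal (ptI w) x) ≤ ringKrullDim (X.presheaf.stalk x) :=
      ringKrullDim_quotient_le _
    rw [hdq, hn] at h1
    exact_mod_cast h1
  obtain ⟨h, -, ⟨l, hl⟩, hlen⟩ := Groth.Agent.AdjLin.K268.Len.main (R := X.presheaf.stalk x) hn hP hdq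
  have hcore : ∀ b : ℕ, 1 ≤ b → b ≤ d + 1 → ((b - 1 : ℕ) : ℚ) < β →
      IsLocalRing.maximalIdeal (X.presheaf.stalk x) ^ (d + 1 - b) ≤
        Ideal.span (Set.range fun i => (h i : X.presheaf.stalk x)) ⊔ stalkIdeal (ptI w) x := by
    intro b hb1 hbd hbβ
    have h1 := core C hJac hV M B x w hLc hd hj hβ hb1 hbd hbβ (fun i => (h i : X.presheaf.stalk x))
      (fun i => by rw [hmx]; exact (h i).2) l (by rw [hmx]; exact hl)
    rwa [hmx] at h1
  have hbd : ⌈β⌉₊ ≤ d := by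
    by_contra hc
    push Not at hc
    have h1 : (d : ℚ) < β := Nat.lt_ceil.1 hc
    have h2 := hcore (d + 1) (by omega) le_rfl (by simpa using h1)
    rw [Nat.sub_self, pow_zero, Ideal.one_eq_top, top_le_iff] at h2
    have h3 : Ideal.span (Set.range fun i => (h i : X.presheaf.stalk x)) ⊔ stalkIdeal (ptI w) x ≤
        IsLocalRing.maximalIdeal (X.presheaf.stalk x) := by
      refine sup_le (Ideal.span_le.2 ?_) (IsLocalRing.le_maximalIdeal hP)
      rintro _ ⟨i, rfl⟩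
      exact (h i).2
    rw [h2] at h3
    exact (IsLocalRing.maximalIdeal.isMaximal (X.presheaf.stalk x)).ne_top (top_le_iff.1 h3)
  refine ⟨hbd, fun j => ?_⟩
  have hb1 : 1 ≤ ⌈β⌉₊ := Nat.one_le_iff_ne_zero.2 (Nat.ceil_pos.2 hβ0).ne'
  have h1 := hcore ⌈β⌉₊ hb1 (by omega) (by
    have h2 := Nat.ceil_lt_add_one hβ0.le
    rw [Nat.cast_sub hb1, Nat.cast_one]
    linarith)
  have h2 := hlen _ h1 j
  have h3 : d + 1 - ⌈β⌉₊ + (n - d) - 1 = n - ⌈β⌉₊ := by omega
  rw [h3] at h2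
  exact h2

end K268.Mult

end
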