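import Groth.Agent.AdjLin.K268.Mult

/-!
# The node `NMult0`

`exists_center`: on a model on which `m_x` is monomial, some `E_i` has centre `x` and `ord_i (m_x) > 0`.
`nMult0`: the node.
-/

set_option autoImplicit false
set_option linter.unusedSectionVars false
set_option linter.unusedVariables false
universe u

open CategoryTheory CategoryTheory.Limits AlgebraicGeometry TopologicalSpace Opposite

noncomputable section

namespace K268.Mult0

open Groth.Agent Groth.Agent.Divis.CartierBasic Groth.Agent.Divis.CartierStalk K633.Fuj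
open K577.Lat K577.LatIdeal K577.SkodaCore K577.Skoda K577.SkodaEnd K577.GenNear K268.Mult K756.LatSh K475.GenStalk

variable {k : Type u} [Field k] {X : Scheme.{u}} {p : X ⟶ Spec (CommRingCat.of k)} {n : ℕ} {L : X.Modules}

theorem exists_lift (C : Ctx p n L) (M : Model p) (x : X) : ∃ y : M.Y, M.μ y = x := by
  have := C.int
  have := isProper_μ C M
  have hcl : IsClosed (Set.range M.μ) := M.μ.isClosedMap.isClosed_range
  exact (genericPoint_specializes x).mem_closed hcl ⟨_, map_gen C M⟩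

theorem o_ptI_eq_zero (M : Model p) {x : X} (hx : IsClosed ({x} : Set X)) {i : Fin M.r} (hi : M.c i ≠ x) :
    M.o (ptI x) i = 0 := by
  refine K699.Conn.o_eq_zero M fun h => hi ?_
  rw [K369.Loc.mem_support_ptI] at h
  exact h.mem_closed hx (Set.mem_singleton x)

/-- (T6) some `E_i` has centre `x`. -/
theorem exists_center (C : Ctx p n L) (M : Model p) {x : X} (hx : IsClosed ({x} : Set X)) (hm : M.IsMon (ptI x)) :
    ∃ i, M.c i = x ∧ 0 < M.o (ptI x) i := by
  obtain ⟨y, hy⟩ := exists_lift C M x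
  have h1 : stalkIdeal ((ptI x).comap M.μ) y ≠ ⊤ := by
    rw [← mem_support_iff_stalkIdeal_ne_top, K911.Ncd.mem_support_comap, hy, K369.Loc.mem_support_ptI]
  rw [hm] at h1
  by_contra hc
  push Not at hc
  apply h1
  rw [Model.mon, K369.Loc.stalkIdeal_prod']
  rw [← Ideal.one_eq_top]
  refine Finset.prod_eq_one fun i _ => ?_
  have h2 : M.o (ptI x) i = 0 := by
    by_cases hi : M.c i = x
    · exact Nat.le_zero.1 (hc i hi)
    · exact o_ptI_eq_zero M hx hi
  rw [h2, pow_zero, Scheme.IdealSheafData.one_eq_top, stalkIdeal_top, Ideal.one_eq_top]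

/-- the empty boundary -/
def zeroBd (L : X.Modules) : Bd L where
  m := 0
  I := Fin.elim0
  a := Fin.elim0
  c := Fin.elim0
  ne := fun j => j.elim0
  gg := fun j => j.elim0
  nonneg := fun j => j.elim0

theorem zeroBd_o (M : Model p) (i : Fin M.r) : (zeroBd L).o M i = 0 := Finset.sum_empty

theorem exists_params (C : Ctx p n L) {x : X} (hx : IsClosed ({x} : Set X)) :
    ∃ h : Fin n → X.presheaf.stalk x, Ideal.span (Set.range h) = IsLocalRing.maximalIdeal (X.presheaf.stalk x) := by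
  have := C.smooth
  have := regular C x
  have h1 := Lefpen.H705.ClosedPoint.finrank_cotangentSpace_stalk p n x hx
  obtain ⟨h, -, h2⟩ := Groth.Agent.AdjLin.K268.Len.exists_compl (R := X.presheaf.stalk x) (d := 0)
    (fun i => i.elim0) (linearIndependent_empty_type) h1
  refine ⟨h, ?_⟩
  rw [h2]
  have h3 : (Set.range fun i : Fin 0 => ((i.elim0 : IsLocalRing.maximalIdeal (X.presheaf.stalk x)) : X.presheaf.stalk x)) = ∅ :=
    Set.range_eq_empty _
  rw [h3, Ideal.span_empty, bot_sup_eq]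

/-- **First half of `NMult0`.** -/
theorem exists_le (C : Ctx p n L) (hJac : NJac p n) (hV : NVanL p n L) (M : Model p) {x : X}
    (hx : IsClosed ({x} : Set X)) (hm : M.IsMon (ptI x)) (hn : 1 ≤ n) :
    ∃ i, M.c i = x ∧ M.A i ≤ n * M.o (ptI x) i := by
  have hI := C.int
  have hN := locNoeth C
  by_contra hc
  push Not at hc
  obtain ⟨i₁, hi₁, hmi₁⟩ := exists_center C M hx hm
  have hmax := K369.Loc.stalkIdeal_ptI x
  have hx0 : ptI x ≠ ⊥ := by
    intro h0
    rw [h0, stalkIdeal_bot] at hmax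
    have h1 := dim_stalk C x hx
    have h2 : IsField (X.presheaf.stalk x) := IsLocalRing.isField_iff_maximalIdeal_eq.2 hmax.symm
    rw [ringKrullDim_eq_zero_of_isField h2] at h1
    have h3 : n = 0 := by exact_mod_cast h1.symm
    omega
  obtain ⟨a, ha⟩ := K699.Conn.exists_gg C (ptI x)
  let B₀ := K699.Conn.add (zeroBd L) (ptI x) a (M.A i₁ : ℚ) hx0 ha (Nat.cast_nonneg _)
  have hB₀m : B₀.IsMon M := K699.Conn.add_isMon (zeroBd L) (ptI x) a _ hx0 ha (Nat.cast_nonneg _) M hm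
    (fun j => j.elim0)
  have hB₀ : ∀ i, B₀.o M i = ((M.A i₁ * M.o (ptI x) i : ℕ) : ℚ) := fun i => by
    have h1 : B₀.o M i = (M.A i₁ : ℚ) * M.o (ptI x) i + (zeroBd L).o M i := K699.Conn.add_o _ _ _ _ _ _ _ M i
    rw [h1, zeroBd_o, add_zero, Nat.cast_mul]
  let e₀ : Fin M.r → ℕ := fun i => ⌊B₀.o M i⌋₊
  let e₁ : Fin M.r → ℕ := fun i => ⌊(zeroBd L).o M i⌋₊
  have he₀ : ∀ i, e₀ i = M.A i₁ * M.o (ptI x) i := fun i => by
    change ⌊B₀.o M i⌋₊ = _
    rw [hB₀, Nat.floor_natCast]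
  have he₁ : ∀ i, e₁ i = 0 := fun i => by
    change ⌊(zeroBd L).o M i⌋₊ = _
    rw [zeroBd_o, Nat.floor_zero]
  obtain ⟨U₀, hxU₀, hvan⟩ := exists_van C hJac hV M x hx0 hm
  obtain ⟨h, hh⟩ := exists_params C hx
  obtain ⟨U, hxU, H, hUN, hH, hHM, hHred⟩ := exists_near x h (ptI x) ⊥ 0 (by
    rw [zero_add, pow_one, pow_zero, hmax, mul_one, hh]
    exact le_sup_left) (fun i => by
      rw [hmax, ← hh]
      exact Ideal.subset_span ⟨i, rfl⟩) U₀ hxU₀
  have hηX : genericPoint X ∈ U.1 := mem_of_nonempty hxU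
  have hη : genericPoint M.Y ∈ M.μ ⁻¹ᵁ U.1 := by
    change M.μ (genericPoint M.Y) ∈ U.1
    rw [map_gen C M]
    exact hηX
  have hHM' : ∀ i (x' : X) (hx' : x' ∈ U.1), X.presheaf.germ U.1 x' hx' (H i) ∈ stalkIdeal (ptI x) x' :=
    fun i x' hx' => by
      rw [stalkIdeal_eq (ptI x) U hx']
      exact Ideal.mem_map_of_mem _ (hHM i)
  have hHgen : ∀ (x' : X) (hx' : x' ∈ U.1), stalkIdeal (ptI x) x' = spanGerm H x' hx' := fun x' hx' => by
    apply le_antisymm
    · have h1 := hHred x' hx'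
      rw [zero_add, pow_one, pow_zero, mul_one, stalkIdeal_bot, sup_bot_eq] at h1
      exact h1
    · refine Ideal.span_le.2 ?_
      rintro _ ⟨i, rfl⟩
      exact hHM' i x' hx'
  have hloc : ∀ y ∈ M.μ ⁻¹ᵁ U.1, ∃ i, ∀ s ∈ stalkIdeal (mon M.E (M.o (ptI x))) y, ∃ t : M.Y.presheaf.stalk y,
      algebraMap (M.Y.presheaf.stalk y) M.Y.functionField s = algebraMap _ _ t * rat M.μ U.1 hη (H i) := by
    intro y hy
    have hMeff : BlowUp.IsEffCartierIdeal (mon M.E (M.o (ptI x))) := isEff_mon' (isEff_E M) _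
    obtain ⟨τ, hτ0, hτ⟩ := exists_stalkIdeal_eq_span hMeff y
    have h1 : Ideal.span (Set.range fun i => M.μ.stalkMap y (X.presheaf.germ U.1 (M.μ y) hy (H i))) =
        Ideal.span {τ} := by
      rw [← hτ, show mon M.E (M.o (ptI x)) = (ptI x).comap M.μ from hm.symm, stalkIdeal_comap, hHgen (M.μ y) hy]
      unfold spanGerm
      rw [Ideal.map_span, ← Set.range_comp]
      rfl
    obtain ⟨i, r, hr⟩ := exists_gen_of_span (nonZeroDivisors.ne_zero hτ0) h1
    refine ⟨i, fun s hs => ?_⟩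
    rw [hτ] at hs
    obtain ⟨c, rfl⟩ := Ideal.mem_span_singleton'.mp hs
    refine ⟨c * r, ?_⟩
    rw [map_mul, hr, map_mul, map_mul, algebraMap_stalkMap M.μ U.1 hη (H i) y hy, mul_assoc]
  have hf : ∀ y ∈ M.μ ⁻¹ᵁ U.1, (1 : M.Y.functionField) ∈ colon (mon M.E (e₁ + n • M.o (ptI x))) M.J y := by
    intro y hy
    refine K699.Conn.one_mem_fr C M fun i hi => ?_
    change e₁ i + n * M.o (ptI x) i < M.A i
    rw [he₁, zero_add]
    by_cases hi' : M.c i = x
    · exact hc i hi'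
    · rw [o_ptI_eq_zero M hx hi', mul_zero, Model.A]
      omega
  obtain ⟨c, w, hcm, hwm, e⟩ := skoda hη (isEff_J C M) (isEff_E M) (e0 := e₀) (e1 := e₁) (M := M.o (ptI x))
    (fun i => by rw [he₁]; exact Nat.zero_le _) hn (fun i => rat M.μ U.1 hη (H i))
    (fun i y hy => ⟨M.μ.stalkMap y (X.presheaf.germ U.1 (M.μ y) hy (H i)), by
      rw [show mon M.E (M.o (ptI x)) = (ptI x).comap M.μ from hm.symm, stalkIdeal_comap]
      exact Ideal.mem_map_of_mem _ (hHM' i _ _), algebraMap_stalkMap M.μ U.1 hη (H i) y hy⟩)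
    (fun y hy => Or.inr (hloc y hy)) (fun j _ q hq => hvan U hUN (zeroBd L) (fun j => j.elim0) j q hq)
    (fun j _ q hq => hvan U hUN B₀ hB₀m j q hq) hf
  have hex : ∀ (I : M.Y.IdealSheafData) (F : M.Y.functionField), (∀ y ∈ M.μ ⁻¹ᵁ U.1, F ∈ colon I M.J y) →
      ∃ s : Γ(X, U.1), rat M.μ U.1 hη s = F := fun I F hF => exists_section C M U.1 hη F fun y hy a ha => by
    obtain ⟨t, -, et⟩ := hF y hy a ha
    exact ⟨t, et⟩
  choose D hD using fun i => hex _ (c i) (hcm i)
  obtain ⟨s, rfl⟩ := hex _ w hwm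
  -- `s` vanishes at `x`
  have hs : s ∈ (ptI x).ideal U := by
    let e' : Fin M.r → ℕ := fun i => min ((e₀ + n • M.o (ptI x)) i) (M.A i)
    have he' : e' i₁ = M.A i₁ := by
      refine min_eq_right ?_
      change M.A i₁ ≤ e₀ i₁ + n * M.o (ptI x) i₁
      rw [he₀]
      nlinarith
    exact mem_ptI_of_mem_colon C M he' hi₁ U hη hxU s fun y hy =>
      colon_anti (mon_anti M.E fun i => min_le_left _ _) y (hwm y hy)
  have e2 : (1 : Γ(X, U.1)) = ∑ i, H i * D i + s := by
    apply rat_injective M.μ (map_gen C M) U.1 hη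
    rw [map_one, e, map_add, map_sum]
    simp only [map_mul, hD]
  have e3 : (1 : X.presheaf.stalk x) ∈ IsLocalRing.maximalIdeal (X.presheaf.stalk x) := by
    rw [← hmax, stalkIdeal_eq (ptI x) U hxU, ← map_one (X.presheaf.germ U.1 x hxU).hom, e2]
    exact Ideal.mem_map_of_mem _ (Ideal.add_mem _ (Ideal.sum_mem _ fun i _ => Ideal.mul_mem_right _ _ (hHM i)) hs)
  exact (Ideal.ne_top_iff_one _).1 (IsLocalRing.maximalIdeal.isMaximal _).ne_top e3

/-- **The node `NMult0`.** -/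
theorem nMult0 [IsAlgClosed k] [CharZero k] [IrreducibleSpace X] (C : Ctx p n L) (hJac : NJac p n)
    (hV : NVanL p n L) : NMult0 p n := by
  intro M x hx hm hn
  refine ⟨exists_le C hJac hV M hx hm hn, fun j => ?_⟩
  obtain ⟨h, hh⟩ := exists_params C hx
  refine (Groth.Agent.AdjLin.K268.Len.length_quot_le (le_sup_right)).trans ?_
  refine (Groth.Agent.AdjLin.K268.Len.length_quot_maximalIdeal_pow_le h (fun i => by
    rw [← hh]; exact Ideal.subset_span ⟨i, rfl⟩) j).trans ?_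
  rw [hh, Groth.Agent.AdjLin.K268.Len.length_quot_maximalIdeal, mul_one]

end K268.Mult0

end
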