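import Groth.Agent.AdjLin.K268.Len
import Groth.Agent.S7711
import Groth.Agent.S3281
import Mathlib.Algebra.Order.Antidiag.FinsuppEquiv

/-!
General elements of the maximal ideal (node LEN of the Fujita freeness plan of helper633).

Main results (`R` Noetherian local with infinite residue field, `P` proper ideal, `dim R/P = d`):
`exists_general`: there are `h_1..h_d ∈ m`, linearly independent mod `m²`, with
`m^(j+1) ≤ (h) m^j + P` for some `j`.
-/

set_option autoImplicit false

open Module IsLocalRing

namespace Groth.Agent.AdjLin.K268.Len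

universe u

section Count

variable {S : Type u} [CommRing S]

theorem length_quot_add_one_le {I J : Ideal S} (h : I < J) :
    length S (S ⧸ J) + 1 ≤ length S (S ⧸ I) := by
  have h1 : length S (S ⧸ I) =
      length S (LinearMap.ker (Submodule.factor h.le : (S ⧸ I) →ₗ[S] (S ⧸ J))) +
        length S (S ⧸ J) :=
    Module.length_eq_add_of_exact (LinearMap.ker (Submodule.factor h.le)).subtype
      (Submodule.factor h.le) (Submodule.subtype_injective _) (Submodule.factor_surjective h.le)
      (by rw [LinearMap.exact_iff]; simp)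
  have h2 : Nontrivial (LinearMap.ker (Submodule.factor h.le : (S ⧸ I) →ₗ[S] (S ⧸ J))) := by
    obtain ⟨x, hxJ, hxI⟩ := SetLike.exists_of_lt h
    rw [Submodule.nontrivial_iff_ne_bot, Submodule.ne_bot_iff]
    refine ⟨Submodule.Quotient.mk x, ?_, ?_⟩
    · rw [LinearMap.mem_ker]
      change Submodule.Quotient.mk x = (0 : S ⧸ J)
      exact (Submodule.Quotient.mk_eq_zero J).2 hxJ
    · intro h0
      exact hxI ((Submodule.Quotient.mk_eq_zero I).1 h0)
  rw [h1, add_comm]
  gcongr
  exact Order.one_le_iff_pos.2 Module.length_pos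

variable [IsLocalRing S]

/-- analytic independence in the maximal ideal. -/
def AnInd {t : ℕ} (v : Fin t → S) : Prop :=
  ∀ (h : ℕ) (f : MvPolynomial (Fin t) S), f.IsHomogeneous h →
    MvPolynomial.eval v f ∈ maximalIdeal S ^ h * maximalIdeal S →
      ∀ d : Fin t →₀ ℕ, f.coeff d ∈ maximalIdeal S

/-- value of the monomial. -/
noncomputable def mon {t : ℕ} (v : Fin t → S) (μ : Fin t →₀ ℕ) : S := MvPolynomial.eval v (MvPolynomial.monomial μ 1)

theorem mon_mem {t : ℕ} {v : Fin t → S} (hv : ∀ i, v i ∈ maximalIdeal S) {μ : Fin t →₀ ℕ} {i : ℕ}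
    (hμ : μ.degree = i) : mon v μ ∈ maximalIdeal S ^ i := by
  rw [mon, MvPolynomial.eval_monomial, one_mul, Finsupp.prod_fintype _ _ (by simp), ← hμ,
    Finsupp.degree_eq_sum, ← Finset.prod_pow_eq_pow_sum]
  exact Ideal.prod_mem_prod fun i _ => Ideal.pow_mem_pow (hv i) _

theorem length_add_card_le {t : ℕ} {v : Fin t → S} (hind : AnInd v) (i : ℕ)
    (U : Finset (Fin t →₀ ℕ)) (hU : ∀ μ ∈ U, μ.degree = i) :
    length S (S ⧸ (maximalIdeal S ^ (i + 1) ⊔ Submodule.span S (mon v '' U))) + (U.card : ℕ) ≤
      length S (S ⧸ (maximalIdeal S ^ (i + 1))) := by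
  classical
  induction U using Finset.induction_on with
  | empty =>
    rw [Finset.card_empty, Nat.cast_zero, add_zero]
    exact length_quot_le le_sup_left
  | insert μ U hμ ih =>
    have ih' := ih fun ν hν => hU ν (Finset.mem_insert_of_mem hν)
    refine le_trans ?_ ih'
    rw [Finset.card_insert_of_notMem hμ, Nat.cast_add, Nat.cast_one, add_comm (U.card : ℕ∞) 1,
      ← add_assoc]
    gcongr
    apply length_quot_add_one_le
    refine lt_of_le_of_ne (sup_le_sup_left (Submodule.span_mono
      (Set.image_mono (by simp))) _) ?_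
    intro heq
    have hmem : mon v μ ∈ maximalIdeal S ^ (i + 1) ⊔ Submodule.span S (mon v '' U) := by
      rw [heq]
      exact (le_sup_right : _ ≤ maximalIdeal S ^ (i + 1) ⊔ _)
        (Submodule.subset_span ⟨μ, by simp, rfl⟩)
    obtain ⟨z, hz, w, hw, hzw⟩ := Submodule.mem_sup.1 hmem
    obtain ⟨c, rfl⟩ := (Submodule.mem_span_image_finset_iff_exists_fun' S).1 hw
    have := hind i (MvPolynomial.monomial μ 1 - ∑ ν ∈ U, MvPolynomial.monomial ν (c ν)) (by
      refine (MvPolynomial.isHomogeneous_monomial _ (hU μ (Finset.mem_insert_self _ _))).sub ?_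
      exact MvPolynomial.IsHomogeneous.sum _ _ _ fun ν hν =>
        MvPolynomial.isHomogeneous_monomial _ (hU ν (Finset.mem_insert_of_mem hν))) (by
      rw [← pow_succ, map_sub, map_sum]
      have e1 : ∑ ν ∈ U, MvPolynomial.eval v (MvPolynomial.monomial ν (c ν)) =
          ∑ ν ∈ U, c ν • mon v ν := by
        refine Finset.sum_congr rfl fun ν _ => ?_
        rw [mon, MvPolynomial.eval_monomial, MvPolynomial.eval_monomial, one_mul, smul_eq_mul]
      rw [e1]
      change mon v μ - _ ∈ _
      rw [← hzw, add_sub_cancel_right]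
      exact hz) μ
    rw [MvPolynomial.coeff_sub, MvPolynomial.coeff_monomial, if_pos rfl, MvPolynomial.coeff_sum,
      Finset.sum_eq_zero, sub_zero] at this
    · exact (Ideal.ne_top_iff_one _).1 (maximalIdeal.isMaximal S).ne_top this
    · intro ν hν
      rw [MvPolynomial.coeff_monomial, if_neg]
      rintro rfl
      exact hμ hν

theorem choose_le_length {s : ℕ} {v : Fin (s + 1) → S} (hv : ∀ i, v i ∈ maximalIdeal S)
    (hind : AnInd v) (j : ℕ) :
    (((j + s).choose (s + 1) : ℕ) : ℕ∞) ≤ length S (S ⧸ (maximalIdeal S ^ j)) := by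
  induction j with
  | zero => simp
  | succ j ih =>
    have h1 := length_add_card_le hind j (Finset.univ.finsuppAntidiag j) (by
      intro μ hμ
      rw [Finset.mem_finsuppAntidiag] at hμ
      rw [Finsupp.degree_eq_sum]
      exact hμ.1)
    have h2 : maximalIdeal S ^ (j + 1) ⊔ Submodule.span S
        (mon v '' ((Finset.univ.finsuppAntidiag j : Finset (Fin (s + 1) →₀ ℕ)) : Set _)) ≤
        maximalIdeal S ^ j := by
      refine sup_le (Ideal.pow_le_pow_right (Nat.le_succ j)) (Submodule.span_le.2 ?_)
      rintro _ ⟨μ, hμ, rfl⟩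
      refine mon_mem hv ?_
      rw [Finset.mem_coe, Finset.mem_finsuppAntidiag] at hμ
      rw [Finsupp.degree_eq_sum]
      exact hμ.1
    rw [Finset.card_finsuppAntidiag_nat_eq_choose, Finset.card_univ, Fintype.card_fin] at h1
    refine le_trans ?_ h1
    refine le_trans ?_ (add_le_add_left (ih.trans (length_quot_le h2)) _)
    rw [← Nat.cast_add]
    gcongr
    have e1 : j + 1 + s = j + s + 1 := by omega
    have e2 : s + 1 + j - 1 = j + s := by omega
    rw [e1, e2, Nat.choose_succ_succ, Nat.succ_eq_add_one, add_comm]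
    gcongr
    have := Nat.choose_symm_add (a := j) (b := s)
    omega

/-- the growth comparison. -/
theorem le_of_growth {s d L : ℕ} (h : ∀ j, (j + s).choose (s + 1) ≤ (j + d - 1).choose d * L) :
    s + 1 ≤ d := by
  by_contra hc
  have hds : d ≤ s := by omega
  set j := (d + 1) * L + 1 with hj
  have h1 := h j
  have h2 : (j + d).choose (d + 1) ≤ (j + s).choose (s + 1) := by
    have e1 : (j + d).choose (d + 1) = (j + d).choose (j - 1) := by
      rw [← Nat.choose_symm_of_eq_add]; omega
    have e2 : (j + s).choose (s + 1) = (j + s).choose (j - 1) := by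
      rw [← Nat.choose_symm_of_eq_add]; omega
    rw [e1, e2]
    exact Nat.choose_le_choose _ (by omega)
  have h3 := Nat.add_one_mul_choose_eq (j + d - 1) d
  rw [show j + d - 1 + 1 = j + d by omega] at h3
  have h4 : 0 < (j + d - 1).choose d := Nat.choose_pos (by omega)
  have h5 : (j + d) * (j + d - 1).choose d ≤ ((d + 1) * L) * (j + d - 1).choose d := by
    calc (j + d) * (j + d - 1).choose d = (j + d).choose (d + 1) * (d + 1) := h3
      _ ≤ ((j + d - 1).choose d * L) * (d + 1) := Nat.mul_le_mul_right _ (h2.trans h1)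
      _ = _ := by ring
  have h6 := Nat.le_of_mul_le_mul_right h5 h4
  omega

end Count

section Dim

variable {S : Type u} [CommRing S] [IsLocalRing S] [IsNoetherianRing S]

theorem le_radical_of_height {J : Ideal S} (hh : (maximalIdeal S).height ≤ J.height) :
    maximalIdeal S ≤ J.radical := by
  rw [Ideal.radical_eq_sInf]
  refine le_sInf ?_
  rintro p ⟨hJp, hp⟩
  by_contra hc
  have hlt : p < maximalIdeal S := lt_of_le_of_ne (le_maximalIdeal hp.ne_top) (fun h => hc h.ge)
  have h1 : p.height < (maximalIdeal S).height :=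
    Ideal.height_strict_mono_of_isPrime_of_isPrime hlt
  exact absurd (Ideal.height_mono hJp) (not_le.2 (h1.trans_le hh))

theorem length_quot_lt_top {J : Ideal S} (h : maximalIdeal S ≤ J.radical) :
    length S (S ⧸ J) < ⊤ := by
  obtain ⟨N, hN⟩ := Ideal.exists_pow_le_of_le_radical_of_fg h (IsNoetherian.noetherian _)
  obtain ⟨x, hx⟩ := K437.IdealRed.exists_fin_span (maximalIdeal S) (IsNoetherian.noetherian _)
  have h1 := length_quot_pow_le x N
  rw [hx, length_quot_maximalIdeal, mul_one] at h1
  exact ((length_quot_le hN).trans h1).trans_lt (ENat.natCast_lt_top _)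

/-- analytically independent elements of the maximal ideal are at most `dim S`. -/
theorem le_dim_of_anInd {t d : ℕ} {v : Fin t → S} (hv : ∀ i, v i ∈ maximalIdeal S)
    (hind : AnInd v) (hd : ringKrullDim S = d) : t ≤ d := by
  rcases t with _ | s
  · exact Nat.zero_le _
  have hd' : (maximalIdeal S).height = d := by
    have := IsLocalRing.maximalIdeal_height_eq_ringKrullDim (R := S)
    rw [hd] at this
    exact_mod_cast this
  obtain ⟨J, hJ1, hJ2, hJ3⟩ :=
    Ideal.exists_spanRank_eq_and_height_eq (maximalIdeal S) (maximalIdeal.isMaximal S).ne_top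
  have hfr : J.spanFinrank = d := by
    rw [Submodule.spanFinrank, hJ2, hd']
    simp
  obtain ⟨x, hx⟩ := K437.IdealRed.exists_fin_span J (IsNoetherian.noetherian _)
  have hfin : length S (S ⧸ J) < ⊤ := length_quot_lt_top (le_radical_of_height hJ3.ge)
  obtain ⟨L, hL⟩ := ENat.ne_top_iff_exists.1 hfin.ne
  rw [← hfr]
  refine le_of_growth (L := L) fun j => ?_
  have h1 := choose_le_length hv hind j
  have h2 := length_quot_pow_le_of_le x (maximalIdeal S) (hx.le.trans hJ1) j
  rw [hx, ← hL] at h2
  exact_mod_cast h1.trans h2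

/-- **Existence of general elements.**  `S` Noetherian local of dimension `d` with infinite residue
field: there are `v_1..v_d` in the maximal ideal `n`, analytically independent, with
`n^(j+1) = (v) n^j` for some `j`. -/
theorem exists_reduction [Infinite (ResidueField S)] {d : ℕ} (hd : ringKrullDim S = d) :
    ∃ v : Fin d → S, (∀ i, v i ∈ maximalIdeal S) ∧ AnInd v ∧
      ∃ j : ℕ, maximalIdeal S ^ (j + 1) = Ideal.span (Set.range v) * maximalIdeal S ^ j := by
  obtain ⟨a, -, ha⟩ := Groth.Agent.S3281.result S (maximalIdeal S) (maximalIdeal S)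
    (K437.IdealRed.isReduction_refl _)
  have hne : maximalIdeal S ≠ ⊤ := (maximalIdeal.isMaximal S).ne_top
  obtain ⟨v, hv⟩ := K437.IdealRed.exists_fin_span a (IsNoetherian.noetherian _)
  have hind : AnInd v := Groth.Agent.S7711.result S ‹_› a (maximalIdeal S) hne ha _ v hv rfl
  have hvm : ∀ i, v i ∈ maximalIdeal S := fun i => ha.1.1 (hv ▸ Ideal.subset_span ⟨i, rfl⟩)
  have h1 : a.spanFinrank ≤ d := le_dim_of_anInd hvm hind hd
  obtain ⟨s, hs⟩ := ha.1.2
  have hane : a ≠ ⊤ := fun h => hne (top_le_iff.1 (h ▸ ha.1.1))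
  have h2 : d ≤ a.spanFinrank := by
    have hd' : (maximalIdeal S).height = d := by
      have := IsLocalRing.maximalIdeal_height_eq_ringKrullDim (R := S)
      rw [hd] at this
      exact_mod_cast this
    have h3 : (maximalIdeal S).height ≤ a.height := by
      rw [a.height_eq_inf_minimalPrimes]
      refine le_iInf₂ fun p hp => ?_
      have := hp.isPrime
      refine Ideal.height_mono ?_
      have h4 : maximalIdeal S ^ (s + 1) ≤ p := by
        rw [← hs]
        exact Ideal.mul_le_left.trans hp.le
      exact Ideal.IsPrime.le_of_pow_le h4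
    have h5 := (h3.trans (a.height_le_spanFinrank hane))
    rw [hd'] at h5
    exact_mod_cast h5
  obtain rfl : a.spanFinrank = d := le_antisymm h1 h2
  exact ⟨v, hvm, hind, s, by rw [hv, hs]⟩

end Dim

section Main

variable {R : Type u} [CommRing R] [IsLocalRing R] [IsNoetherianRing R]

/-- **Node LEN, first half.** -/
theorem exists_general [Infinite (ResidueField R)] {P : Ideal R} (hP : P ≠ ⊤) {d : ℕ}
    (hd : ringKrullDim (R ⧸ P) = d) :
    ∃ h : Fin d → maximalIdeal R,
      LinearIndependent (ResidueField R) (fun i => (maximalIdeal R).toCotangent (h i)) ∧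
      ∃ j : ℕ, maximalIdeal R ^ (j + 1) ≤
        Ideal.span (Set.range fun i => (h i : R)) * maximalIdeal R ^ j ⊔ P := by
  have : Nontrivial (R ⧸ P) := Ideal.Quotient.nontrivial_iff.2 hP
  have hloc : IsLocalRing (R ⧸ P) :=
    IsLocalRing.of_surjective' (Ideal.Quotient.mk P) Ideal.Quotient.mk_surjective
  have hmk : IsLocalHom (Ideal.Quotient.mk P) :=
    Function.Surjective.isLocalHom _ Ideal.Quotient.mk_surjective
  have : Infinite (ResidueField (R ⧸ P)) :=
    Infinite.of_injective (IsLocalRing.ResidueField.map (Ideal.Quotient.mk P)) (RingHom.injective _)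
  have hcomap : ∀ x, x ∈ maximalIdeal R ↔ Ideal.Quotient.mk P x ∈ maximalIdeal (R ⧸ P) := by
    intro x
    rw [mem_maximalIdeal, mem_maximalIdeal, mem_nonunits_iff, mem_nonunits_iff,
      isUnit_map_iff]
  have hmap : (maximalIdeal R).map (Ideal.Quotient.mk P) = maximalIdeal (R ⧸ P) := by
    refine le_antisymm (Ideal.map_le_iff_le_comap.2 fun x hx => (hcomap x).1 hx) ?_
    intro y hy
    obtain ⟨x, rfl⟩ := Ideal.Quotient.mk_surjective y
    exact Ideal.mem_map_of_mem _ ((hcomap x).2 hy)
  obtain ⟨v, hv, hind, j, hj⟩ := exists_reduction (S := R ⧸ P) hd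
  have hl : ∀ i, ∃ x : maximalIdeal R, Ideal.Quotient.mk P x = v i := by
    intro i
    obtain ⟨x, hx⟩ := Ideal.Quotient.mk_surjective (v i)
    exact ⟨⟨x, (hcomap x).2 (hx ▸ hv i)⟩, hx⟩
  choose h hh using hl
  refine ⟨h, ?_, j, ?_⟩
  · rw [Fintype.linearIndependent_iff]
    intro g hg i
    obtain ⟨c, hc⟩ : ∃ c : Fin d → R, ∀ i, residue R (c i) = g i :=
      ⟨fun i => (residue_surjective (g i)).choose, fun i => (residue_surjective (g i)).choose_spec⟩
    have h1 : (maximalIdeal R).toCotangent (∑ i, c i • h i) = 0 := by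
      rw [map_sum, ← hg]
      refine Finset.sum_congr rfl fun i _ => ?_
      rw [map_smul, ← hc i]
      rfl
    rw [Ideal.toCotangent_eq_zero] at h1
    have h2 : MvPolynomial.eval v (∑ i, MvPolynomial.C (Ideal.Quotient.mk P (c i)) *
        MvPolynomial.X i) ∈ maximalIdeal (R ⧸ P) ^ 1 * maximalIdeal (R ⧸ P) := by
      rw [map_sum]
      have e1 : ∑ i, MvPolynomial.eval v (MvPolynomial.C (Ideal.Quotient.mk P (c i)) *
          MvPolynomial.X i) = Ideal.Quotient.mk P ((∑ i, c i • h i : maximalIdeal R) : R) := by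
        rw [Submodule.coe_sum, map_sum]
        refine Finset.sum_congr rfl fun i _ => ?_
        rw [map_mul, MvPolynomial.eval_C, MvPolynomial.eval_X, Submodule.coe_smul, smul_eq_mul,
          map_mul, hh]
      rw [e1, pow_one, ← pow_two, ← hmap, ← Ideal.map_pow]
      exact Ideal.mem_map_of_mem _ h1
    have h3 := hind 1 _ (MvPolynomial.IsHomogeneous.sum _ _ _ fun i _ =>
      MvPolynomial.isHomogeneous_C_mul_X _ _) h2 (Finsupp.single i 1)
    rw [MvPolynomial.coeff_sum, Finset.sum_eq_single i, MvPolynomial.coeff_C_mul,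
      MvPolynomial.coeff_X, if_pos rfl, mul_one, ← hcomap] at h3
    · rw [← hc i]
      exact (residue_eq_zero_iff _).2 h3
    · intro k _ hk
      rw [MvPolynomial.coeff_C_mul, MvPolynomial.coeff_X, if_neg, mul_zero]
      intro hkk
      exact hk (Finsupp.single_left_injective one_ne_zero hkk)
    · simp
  · have h1 : (maximalIdeal R ^ (j + 1)).map (Ideal.Quotient.mk P) ≤
        (Ideal.span (Set.range fun i => (h i : R)) * maximalIdeal R ^ j).map
          (Ideal.Quotient.mk P) := by
      rw [Ideal.map_pow, hmap, Ideal.map_mul, Ideal.map_pow, hmap, hj, Ideal.map_span,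
        ← Set.range_comp]
      have : (Ideal.Quotient.mk P ∘ fun i => (h i : R)) = v := funext hh
      rw [this]
    rw [Ideal.map_le_iff_le_comap] at h1
    refine h1.trans ?_
    rw [Ideal.comap_map_of_surjective _ Ideal.Quotient.mk_surjective]
    refine sup_le_sup_left ?_ _
    rw [← RingHom.ker_eq_comap_bot, Ideal.mk_ker]

/-- **Node LEN, second half** (regular form). -/
theorem length_le_of_regular {R : Type u} [CommRing R] [IsRegularLocalRing R] {n d e : ℕ}
    (hn : ringKrullDim R = n) (h : Fin d → maximalIdeal R)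
    (hli : LinearIndependent (ResidueField R) fun i => (maximalIdeal R).toCotangent (h i))
    (P : Ideal R)
    (he : maximalIdeal R ^ e ≤ P ⊔ Ideal.span (Set.range fun i => (h i : R))) (j : ℕ) :
    length R (R ⧸ (P ⊔ maximalIdeal R ^ j)) ≤
      ((j + d - 1).choose d * (e + (n - d) - 1).choose (n - d) : ℕ) := by
  refine length_quot_sup_maximalIdeal_pow_le h hli ?_ P he j
  have := (IsRegularLocalRing.iff_finrank_cotangentSpace (R := R)).1 inferInstance
  rw [hn] at this
  exact_mod_cast this

/-- **Node LEN**, as one statement: `R` regular local of dimension `n` with infinite residue field,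
`P` a proper ideal, `dim R/P = d`. -/
theorem main {R : Type u} [CommRing R] [IsRegularLocalRing R] [Infinite (ResidueField R)] {n d : ℕ}
    (hn : ringKrullDim R = n) {P : Ideal R} (hP : P ≠ ⊤) (hd : ringKrullDim (R ⧸ P) = d) :
    ∃ h : Fin d → maximalIdeal R,
      LinearIndependent (ResidueField R) (fun i => (maximalIdeal R).toCotangent (h i)) ∧
      (∃ j : ℕ, maximalIdeal R ^ (j + 1) ≤
        Ideal.span (Set.range fun i => (h i : R)) * maximalIdeal R ^ j ⊔ P) ∧
      ∀ e : ℕ, maximalIdeal R ^ e ≤ Ideal.span (Set.range fun i => (h i : R)) ⊔ P → ∀ j : ℕ,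
        length R (R ⧸ (P ⊔ maximalIdeal R ^ j)) ≤
          ((e + (n - d) - 1).choose (n - d) * (j + d - 1).choose d : ℕ) := by
  obtain ⟨h, h1, h2⟩ := exists_general hP hd
  refine ⟨h, h1, h2, fun e he j => ?_⟩
  rw [mul_comm]
  exact length_le_of_regular hn h h1 P (by rwa [sup_comm]) j

end Main

end Groth.Agent.AdjLin.K268.Len
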