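import Groth.Agent.AdjLin.K633.Plan
import Groth.Agent.AdjLin.K577.SkodaEnd2
import Groth.Agent.AdjLin.K134.JacRat
import Groth.Agent.AdjLin.K369.Loc
import Groth.Agent.AdjLin.K680.Mv
import Groth.Agent.AdjLin.K268.Red
import Groth.Agent.Lefpen.H705.ClosedPoint
import Groth.Agent.Fga.DimCut
import Groth.Agent.Surf.K455.Canon
import Groth.Agent.Picfga.CurveRelDim
import Groth.Agent.Resolve.K588.HProj
import Groth.Agent.CycA.ProdDim
import Groth.Agent.CurvesC.RegNormal
import Groth.Agent.Vanish.K911.Ncd
import Groth.Agent.Variety.K432.CurveLift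

/-!
# The multiplicity nodes of the Fujita plan: geometry of a model

Facts about `Ctx p n L` and a `Model p` used by `NMult`, `NMult0`: properness, dimensions, regularity, effective Cartier
divisors, the local bridge from cohomology of `ω_Y ⊗ ∏ E^e` to the lattices `colon (∏ E^e) J`, residue fields and
dimensions of the local rings.
-/

set_option autoImplicit false
set_option linter.unusedSectionVars false
set_option linter.unusedVariables false
universe u

open CategoryTheory CategoryTheory.Limits AlgebraicGeometry TopologicalSpace Opposite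

noncomputable section

namespace K268.Mult

open Groth.Agent Groth.Agent.Divis.CartierBasic Groth.Agent.Divis.CartierStalk K633.Fuj
open K577.Lat K577.LatIdeal K577.SkodaCore K577.Skoda K577.SkodaEnd

variable {k : Type u} [Field k] {X : Scheme.{u}} {p : X ⟶ Spec (CommRingCat.of k)} {n : ℕ} {L : X.Modules}

theorem isProper_p (C : Ctx p n L) : IsProper p := K588.HProj.isProper C.proj

theorem isProper_comp (M : Model p) : IsProper (M.μ ≫ p) := K588.HProj.isProper M.proj

theorem isProper_μ (C : Ctx p n L) (M : Model p) : IsProper M.μ := by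
  have := isProper_p C
  have := isProper_comp M
  exact IsProper.of_comp M.μ p

theorem locNoeth (C : Ctx p n L) : IsLocallyNoetherian X := by
  have := isProper_p C
  exact LocallyOfFiniteType.isLocallyNoetherian p

theorem smooth_p (C : Ctx p n L) : Smooth p := by
  have := C.smooth
  exact SmoothOfRelativeDimension.smooth n p

theorem map_gen (C : Ctx p n L) (M : Model p) : 
    haveI := C.int
    M.μ (genericPoint M.Y) = genericPoint X := by
  have := C.int
  exact K588.Bir.map_genericPoint M.bir

theorem dim_Y (C : Ctx p n L) (M : Model p) : topologicalKrullDim M.Y = n := by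
  have := C.int
  have := isProper_p C
  have := isProper_comp M
  rw [← C.dim]
  obtain ⟨V, hV, hiso⟩ := M.bir
  obtain ⟨x, hx⟩ := K588.Bir.exists_of_isIso_restrict M.μ hiso hV.some_mem
  have hne : Nonempty V := ⟨⟨_, hV.some_mem⟩⟩
  have hne' : Nonempty (M.μ ⁻¹ᵁ V) := ⟨⟨x, by change M.μ x ∈ V; rw [hx]; exact hV.some_mem⟩⟩
  rw [← CycA.ProdDim.dim_of_isOpenImmersion p V.ι, ← CycA.ProdDim.dim_of_isOpenImmersion (M.μ ≫ p) (M.μ ⁻¹ᵁ V).ι]
  exact IsHomeomorph.topologicalKrullDim_eq _ (Scheme.homeoOfIso (asIso (M.μ ∣_ V))).isHomeomorph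

theorem smooth_Y (C : Ctx p n L) (M : Model p) : SmoothOfRelativeDimension n (M.μ ≫ p) := by
  have := M.smooth
  exact Picfga.CurveRelDim.smoothOfRelativeDimension_of_topologicalKrullDim_eq k M.Y (M.μ ≫ p) n (dim_Y C M)

theorem isEff_E (M : Model p) (i : Fin M.r) : BlowUp.IsEffCartierIdeal (M.E i) := by
  have := M.smooth
  exact K911.Ncd.isEff_of_isNCD M.snc i

theorem isEff_J (C : Ctx p n L) (M : Model p) : BlowUp.IsEffCartierIdeal M.J := by
  have := C.int
  have := C.smooth
  have := smooth_Y C M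
  have := isProper_p C
  have := isProper_comp M
  exact K134.JacCart.isEff_jac_of_isBir n M.μ p M.bir

theorem regular (C : Ctx p n L) (x : X) : IsRegularLocalRing (X.presheaf.stalk x) := by
  have := smooth_p C
  exact Lefpen.H705.ClosedPoint.isRegularLocalRing_stalk p x

theorem normal (C : Ctx p n L) (x : X) : IsIntegrallyClosed (X.presheaf.stalk x) := by
  have := regular C x
  exact CurvesC.RegNormal.isIntegrallyClosed _

theorem dim_stalk (C : Ctx p n L) (x : X) (hx : IsClosed ({x} : Set X)) : ringKrullDim (X.presheaf.stalk x) = n := by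
  have := C.smooth
  exact Lefpen.H705.ClosedPoint.ringKrullDim_stalk p n x hx

/-- (J3): a rational function `F` with `F J ⊆ O_Y` over `U` is a section of `O_X` over `U`. -/
theorem exists_section (C : Ctx p n L) (M : Model p) (U : X.Opens) (hη : genericPoint M.Y ∈ M.μ ⁻¹ᵁ U)
    (F : M.Y.functionField) (h : ∀ y, M.μ y ∈ U → ∀ a ∈ stalkIdeal M.J y, ∃ b : M.Y.presheaf.stalk y,
      algebraMap _ M.Y.functionField b = F * algebraMap _ M.Y.functionField a) :
    ∃ s : Γ(X, U), rat M.μ U hη s = F := by
  have := C.int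
  have := locNoeth C
  have := isProper_μ C M
  have hne : Nonempty (M.μ ⁻¹ᵁ U) := ⟨⟨_, hη⟩⟩
  obtain ⟨s, hs⟩ := K134.JacRat.exists_section_of_mul_jac (normal C) M.μ M.bir U F h
  exact ⟨s, hs⟩

/-- The residue fields are infinite. -/
theorem infinite_residueField [CharZero k] (C : Ctx p n L) (x : X) : Infinite (IsLocalRing.ResidueField (X.presheaf.stalk x)) := by
  have : Infinite k := inferInstance
  exact Infinite.of_injective _ (((IsLocalRing.residue _).comp (LefPen.toStalk k p x)).injective)

/-- Canonical modules of a model. -/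
theorem exists_omega (C : Ctx p n L) (M : Model p) : 
    ∃ ω' : M.Y.Modules, Canon.IsTopDiff (M.μ ≫ p) n ω' ∧ PicF.IsInvertible ω' := by
  have := smooth_Y C M
  have := isProper_comp M
  exact K455.Canon.exists_canonical (M.μ ≫ p) n

theorem exists_omegaX (C : Ctx p n L) : ∃ ω : X.Modules, Canon.IsTopDiff p n ω ∧ PicF.IsInvertible ω := by
  have := C.smooth
  have := isProper_p C
  exact K455.Canon.exists_canonical p n

/-- **The local bridge**: over the preimage of a small open `U`, vanishing of the cohomology of `ω_Y ⊗ ∏ E^e` gives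
vanishing for the lattice `colon (∏ E^e) J`. -/
theorem exists_bridge (C : Ctx p n L) (M : Model p)
    (hJ1 : ∀ (ω : X.Modules) (ω' : M.Y.Modules), Canon.IsTopDiff p n ω → Canon.IsTopDiff (M.μ ≫ p) n ω' →
      Nonempty (CohB1.tensorMod ω' (ClSub.idealMod M.J) ≅ (Scheme.Modules.pullback M.μ).obj ω)) (x : X) :
    ∃ U₀ : X.Opens, x ∈ U₀ ∧ ∀ U : X.Opens, U ≤ U₀ → ∀ (e : Fin M.r → ℕ) (ω' : M.Y.Modules),
      Canon.IsTopDiff (M.μ ≫ p) n ω' → ∀ q : ℕ,
      Subsingleton (Coh.HHon M.Y (CohB1.tensorMod ω' (ClSub.idealMod (M.mon e))) (M.μ ⁻¹ᵁ U) q) →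
      Subsingleton (Coh.HH (M.μ ⁻¹ᵁ U : M.Y.Opens) (modR (M.μ ⁻¹ᵁ U) (colon (mon M.E e) M.J)) q) := by
  have := C.int
  obtain ⟨ω, hω, hωi⟩ := exists_omegaX C
  obtain ⟨U₀, t, hx, ht⟩ := (Fdesc.LocGen.isInvertible_iff ω).1 hωi x
  refine ⟨U₀, hx, fun U hU e ω' hω' q h => ?_⟩
  have hs := smooth_Y C M
  have hp := isProper_comp M
  have hω'i := K455.Canon.isInvertible (M.μ ≫ p) n hω'
  exact K680.Mv.subsingleton_colon M.μ (map_gen C M) hωi hω'i (isEff_mon' (isEff_E M) e) (isEff_J C M)
    (hJ1 ω ω' hω hω') (ht.res hU) q h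

/-- The dimension of the local ring of `W = closure {w}` at the closed point `x`. -/
theorem dim_quot (C : Ctx p n L) {x w : X} (hx : IsClosed ({x} : Set X)) (hw : w ⤳ x) {d : ℕ}
    (hd : topologicalKrullDim (closure {w} : Set X) = d) :
    ringKrullDim (X.presheaf.stalk x ⧸ stalkIdeal (ptI w) x) = d := by
  have := isProper_p C
  have hsup : x ∈ (ptI w).support := (K369.Loc.mem_support_ptI w x).2 hw
  obtain ⟨z, rfl⟩ := exists_subscheme_apply_eq (ptI w) hsup
  have hint : IsIntegral (ptI w).subscheme := K432.CurveLift.isIntegral_ptIdeal w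
  rw [ringKrullDim_eq_of_ringEquiv (stalkQuotEquiv (ptI w) z)]
  let _ : ((ptI w).subscheme).Over (Spec (CommRingCat.of k)) := ⟨(ptI w).subschemeι ≫ p⟩
  have : LocallyOfFiniteType ((ptI w).subscheme ↘ Spec (CommRingCat.of k)) :=
    inferInstanceAs (LocallyOfFiniteType ((ptI w).subschemeι ≫ p))
  have hz : IsClosed ({z} : Set (ptI w).subscheme) := by
    have h1 : ({z} : Set (ptI w).subscheme) = (ptI w).subschemeι ⁻¹' {(ptI w).subschemeι z} := by
      ext y
      exact ⟨fun h => by rw [Set.mem_singleton_iff.mp h]; rfl,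
        fun h => (ptI w).subschemeι.isEmbedding.injective h⟩
    rw [h1]
    exact hx.preimage (ptI w).subschemeι.continuous
  rw [Fga.DimCut.ringKrullDim_stalk_eq k _ z hz, ← hd]
  have hr : Set.range (ptI w).subschemeι = closure {w} := by
    rw [Scheme.IdealSheafData.range_subschemeι]
    exact Scheme.IdealSheafData.coe_support_vanishingIdeal _
  rw [← hr]
  exact IsHomeomorph.topologicalKrullDim_eq _ (ptI w).subschemeι.isEmbedding.toHomeomorph.isHomeomorph

theorem one_le_dim {x w : X} (hw : w ⤳ x) (hne : w ≠ x) {d : ℕ}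
    (hx : IsClosed ({x} : Set X)) (hd : topologicalKrullDim (closure {w} : Set X) = d) : 1 ≤ d := by
  have hxc : x ∈ closure ({w} : Set X) := hw.mem_closure
  let T := (closure {w} : Set X)
  let x' : T := ⟨x, hxc⟩
  let w' : T := ⟨w, subset_closure rfl⟩
  let a : IrreducibleCloseds T := ⟨closure {x'}, isIrreducible_singleton.closure, isClosed_closure⟩
  let b : IrreducibleCloseds T := ⟨closure {w'}, isIrreducible_singleton.closure, isClosed_closure⟩
  have hwx : w' ⤳ x' := by
    rw [subtype_specializes_iff]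
    exact hw
  have h1 : a ≤ b := fun z hz => hwx.closure_subset hz
  have h2 : a < b := by
    refine lt_of_le_of_ne h1 fun h => hne ?_
    have h3 : w' ∈ (closure {x'} : Set T) := by
      have h4 : w' ∈ b := subset_closure rfl
      rw [← h] at h4
      exact h4
    have h5 : x' ⤳ w' := specializes_iff_mem_closure.2 h3
    rw [subtype_specializes_iff] at h5
    exact (h5.mem_closed hx rfl : w ∈ ({x} : Set X))
  have h3 : 1 ≤ topologicalKrullDim (closure {w} : Set X) := Order.one_le_krullDim_iff.2 ⟨a, b, h2⟩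
  rw [hd] at h3
  exact_mod_cast h3

end K268.Mult

end
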