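import Groth.Agent.AdjLin.K268.MultBase
import Groth.Agent.AdjLin.K699.Conn
import Groth.Agent.CurvesC.DualIdeals

/-!
# Vanishing for the lattices `colon (∏ E^(e + j m)) J`

* `exists_van`: near `x`, for every boundary `B` monomial on `M`, with `e = floor (ord B)`, `m = ord m_x`:
  `H^q(μ⁻¹U, colon (E^(e + j m)) J) = 0` for `q ≥ 1`, `j ≥ 0`.
* `o_pos`, `mem_ptI_of_mem_colon`.
-/

set_option autoImplicit false
set_option linter.unusedSectionVars false
set_option linter.unusedVariables false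
universe u

open CategoryTheory CategoryTheory.Limits AlgebraicGeometry TopologicalSpace Opposite

noncomputable section

namespace K268.Mult

open Groth.Agent Groth.Agent.Divis.CartierBasic Groth.Agent.Divis.CartierStalk K633.Fuj
open K577.Lat K577.LatIdeal K577.SkodaCore K577.Skoda K577.SkodaEnd

variable {k : Type u} [Field k] {X : Scheme.{u}} {p : X ⟶ Spec (CommRingCat.of k)} {n : ℕ} {L : X.Modules}

theorem fr_eq_colon (M : Model p) (e : Fin M.r → ℕ) : M.fr e = colon (mon M.E e) M.J := rfl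

/-- the order along `E_i` of a monomial ideal is positive if the centre of `E_i` lies in the support -/
theorem o_pos (M : Model p) {I : X.IdealSheafData} (hI : M.IsMon I) {i : Fin M.r} (h : M.c i ∈ I.support) :
    0 < M.o I i := by
  have hdvr := K699.Conn.isDVR_gp M i
  have heff : BlowUp.IsEffCartierIdeal (I.comap M.μ) := by
    rw [hI]
    exact isEff_mon' (isEff_E M) _
  obtain ⟨g, hg0, hg⟩ := exists_stalkIdeal_eq_span heff (M.gp i)
  have h0 : stalkIdeal (I.comap M.μ) (M.gp i) ≠ ⊥ := by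
    rw [hg, Ne, Ideal.span_singleton_eq_bot]
    exact nonZeroDivisors.ne_zero hg0
  have h1 := K699.Conn.eq_pow_idOrd h0
  rw [Nat.pos_iff_ne_zero]
  intro h2
  have h3 : idOrd (stalkIdeal (I.comap M.μ) (M.gp i)) = 0 := h2
  rw [h3, pow_zero, Ideal.one_eq_top, stalkIdeal_comap] at h1
  have h4 : stalkIdeal I (M.μ (M.gp i)) ≠ ⊤ := (mem_support_iff_stalkIdeal_ne_top I _).1 h
  have h5 : (stalkIdeal I (M.μ (M.gp i))).map (M.μ.stalkMap (M.gp i)).hom ≤
      IsLocalRing.maximalIdeal (M.Y.presheaf.stalk (M.gp i)) :=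
    (Ideal.map_mono (IsLocalRing.le_maximalIdeal h4)).trans (Ideal.map_le_iff_le_comap.2 fun a ha =>
      (IsLocalRing.mem_maximalIdeal _).2 fun hu => (IsLocalRing.mem_maximalIdeal _).1 ha
        (isUnit_of_map_unit (M.μ.stalkMap (M.gp i)).hom a hu))
  rw [h1] at h5
  exact (IsLocalRing.maximalIdeal.isMaximal _).ne_top (top_le_iff.1 h5)

/-- near `x`: vanishing for the lattices attached to boundaries -/
theorem exists_van (C : Ctx p n L) (hJac : NJac p n) (hV : NVanL p n L) (M : Model p) (x : X) (hx0 : ptI x ≠ ⊥)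
    (hmx : M.IsMon (ptI x)) : ∃ U₀ : X.Opens, x ∈ U₀ ∧ ∀ U : X.affineOpens, U.1 ≤ U₀ → ∀ (B : Bd L), B.IsMon M →
      ∀ j q : ℕ, 1 ≤ q → Subsingleton (Coh.HH (M.μ ⁻¹ᵁ U.1 : M.Y.Opens)
        (modR (M.μ ⁻¹ᵁ U.1) (colon (mon M.E ((fun i => ⌊B.o M i⌋₊) + j • M.o (ptI x))) M.J)) q) := by
  obtain ⟨U₀, hx, hU₀⟩ := exists_bridge C M (hJac.1 M) x
  obtain ⟨ω', hω', -⟩ := exists_omega C M
  refine ⟨U₀, hx, fun U hU B hB j q hq => ?_⟩
  obtain ⟨a, ha⟩ := K699.Conn.exists_gg C (ptI x)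
  have hj : (0 : ℚ) ≤ (j : ℚ) := Nat.cast_nonneg j
  have hmon := K699.Conn.add_isMon B (ptI x) a (j : ℚ) hx0 ha hj M hmx hB
  refine hU₀ U.1 hU _ ω' hω' q (hV M _ hmon _ (fun i => ?_) ω' hω' U.1 U.2 q hq)
  rw [K699.Conn.add_o]
  change ⌊B.o M i⌋₊ + j * M.o (ptI x) i = _
  rw [add_comm, ← Nat.cast_mul, add_comm ((j * M.o (ptI x) i : ℕ) : ℚ), Nat.floor_add_natCast, add_comm]
  exact Finset.sum_nonneg fun j _ => mul_nonneg (B.nonneg j) (Nat.cast_nonneg _)

/-- sections of the lattice of a log canonical boundary vanish at the centres of the log canonical places -/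
theorem mem_ptI_of_mem_colon (C : Ctx p n L) (M : Model p) {e : Fin M.r → ℕ} {i : Fin M.r} (he : e i = M.A i) {w : X}
    (hw : M.c i = w) (U : X.affineOpens) (hη : genericPoint M.Y ∈ M.μ ⁻¹ᵁ U.1) (hwU : w ∈ U.1) (s : Γ(X, U.1))
    (hs : ∀ y, M.μ y ∈ U.1 → rat M.μ U.1 hη s ∈ colon (mon M.E e) M.J y) : s ∈ (ptI w).ideal U := by
  have hiU : M.μ (M.gp i) ∈ U.1 := by
    change M.c i ∈ U.1
    rw [hw]; exact hwU
  obtain ⟨b, hb, hb'⟩ := K699.Conn.exists_of_mem_fr C M he (hs (M.gp i) hiU)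
  have h1 := algebraMap_stalkMap M.μ U.1 hη s (M.gp i) hiU
  have hinj : Function.Injective (algebraMap (M.Y.presheaf.stalk (M.gp i)) M.Y.functionField) :=
    IsFractionRing.injective _ _
  have h2 : (M.μ.stalkMap (M.gp i)).hom (X.presheaf.germ U.1 (M.μ (M.gp i)) hiU s) = b := by
    apply hinj
    rw [hb']
    exact h1
  have h3 : w ∉ X.basicOpen s := by
    intro h4
    rw [← hw] at h4
    have h5 : M.μ (M.gp i) ∈ X.basicOpen s := h4
    rw [Scheme.mem_basicOpen _ _ _ hiU] at h5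
    have h6 : IsUnit b := by
      rw [← h2]
      exact h5.map _
    exact (IsLocalRing.mem_maximalIdeal _).1 hb h6
  refine (CurvesC.DualIdeals.mem_vanishingIdeal_iff isClosed_closure U s).2 fun z hz hzs => h3 ?_
  exact (specializes_iff_mem_closure.2 hz).mem_open (X.basicOpen s).2 hzs

end K268.Mult

end
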