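import Groth.Agent.AdjLin.K633.Plan
import Groth.Agent.Variety.K431.GGTensor
import Groth.Agent.PerfA.IdealModule
import Groth.Agent.W4c2seshadripos.K850.IdealTwist
import Groth.Agent.Fga.SqZero

/-!
# (G3) of the Fujita plan: `A^a ⊗ I`, `A^a ⊗ I'` globally generated implies `A^a ⊗ (I + I')` globally generated
-/

set_option autoImplicit false
universe u

open CategoryTheory CategoryTheory.Limits AlgebraicGeometry TopologicalSpace Opposite

namespace K268.PG3

open Groth.Agent Groth.Agent.CohqB.QC2 Groth.Agent.CohqB.FiniteType2 Groth.Agent.PerfA.IdealModule Groth.Agent.Fga.SqZero K633.Fuj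

variable {X : Scheme.{u}} {I J : X.IdealSheafData}

/-- The inclusion of the ideal modules for `I ≤ J`. -/
noncomputable abbrev incl (h : I ≤ J) : ClSub.idealMod I ⟶ ClSub.idealMod J := K850.IdealTwist.idealMap h

theorem val_incl (h : I ≤ J) {U : X.Opens} (x : Γ(ClSub.idealMod I, U)) :
    val J ((incl h).app U x) = val I x :=
  congrArg (fun φ => φ.app U x) (K850.IdealTwist.idealMap_ι h)

/-- `I ⟶ I + J` and `J ⟶ I + J` are jointly epimorphic. -/
theorem joint_epi {Z : X.Modules} (f : ClSub.idealMod (I ⊔ J) ⟶ Z) (h1 : incl (le_sup_left : I ≤ I ⊔ J) ≫ f = 0)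
    (h2 : incl (le_sup_right : J ≤ I ⊔ J) ≫ f = 0) : f = 0 := by
  ext U x
  change f.app U x = (0 : Γ(Z, U))
  have key : ∀ (V : X.affineOpens) (hV : V.1 ≤ U), Fdesc.LocGen.res Z hV (f.app U x) = 0 := by
    intro V hV
    rw [← Fdesc.LocGen.app_res]
    have hx := val_mem (I ⊔ J) V (Fdesc.LocGen.res _ hV x)
    rw [Scheme.IdealSheafData.ideal_sup] at hx
    obtain ⟨a, ha, b, hb, hab⟩ := Submodule.mem_sup.1 (show _ ∈ I.ideal V ⊔ J.ideal V from hx)
    obtain ⟨a', rfl⟩ := exists_val_eq I V ha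
    obtain ⟨b', rfl⟩ := exists_val_eq J V hb
    have he : Fdesc.LocGen.res _ hV x = (incl (le_sup_left : I ≤ I ⊔ J)).app V.1 a' +
        (incl (le_sup_right : J ≤ I ⊔ J)).app V.1 b' := by
      refine val_injective (I ⊔ J) V.1 ?_
      rw [← hab, ← val_incl (le_sup_left : I ≤ I ⊔ J), ← val_incl (le_sup_right : J ≤ I ⊔ J)]
      exact ((appLinear (ClSub.idealModι (I ⊔ J)) V.1).map_add _ _).symm
    have e1 : f.app V.1 ((incl (le_sup_left : I ≤ I ⊔ J)).app V.1 a') = 0 :=
      congrArg (fun φ => φ.app V.1 a') h1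
    have e2 : f.app V.1 ((incl (le_sup_right : J ≤ I ⊔ J)).app V.1 b') = 0 :=
      congrArg (fun φ => φ.app V.1 b') h2
    rw [he, map_add, e1, e2, add_zero]
  choose W hW hWU using fun y : U => exists_affine y.2
  exact Fdesc.LocGen.res_ext Z (fun y : U => (W y).1) hWU
    (fun y hy => Opens.mem_iSup.2 ⟨⟨y, hy⟩, hW ⟨y, hy⟩⟩) fun y => (key _ _).trans (map_zero _).symm

theorem epi_desc : Epi (coprod.desc (incl (le_sup_left : I ≤ I ⊔ J)) (incl (le_sup_right : J ≤ I ⊔ J))) := by
  refine Preadditive.epi_of_cancel_zero _ fun {Z} g hg => joint_epi g ?_ ?_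
  · have h := congrArg (fun t => coprod.inl ≫ t) hg
    simp only [comp_zero] at h
    rwa [← Category.assoc, coprod.inl_desc] at h
  · have h := congrArg (fun t => coprod.inr ≫ t) hg
    simp only [comp_zero] at h
    rwa [← Category.assoc, coprod.inr_desc] at h

theorem sup {P : X.Modules} (hI : Curv2.IsGloballyGenerated ((DCoh.tensorRightMod P).obj (ClSub.idealMod I)))
    (hJ : Curv2.IsGloballyGenerated ((DCoh.tensorRightMod P).obj (ClSub.idealMod J))) :
    Curv2.IsGloballyGenerated ((DCoh.tensorRightMod P).obj (ClSub.idealMod (I ⊔ J))) := by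
  have h1 := PerfB.TensExact.preservesFiniteColimits_tensorRightMod P
  have h2 : (DCoh.tensorRightMod P).PreservesEpimorphisms :=
    CategoryTheory.preservesEpimorphisms_of_preservesColimitsOfShape _
  rw [Variety.K431.GGTensor.iff_cancel] at hI hJ ⊢
  intro Z f hf
  have h3 : (DCoh.tensorRightMod P).map (incl (le_sup_left : I ≤ I ⊔ J)) ≫ f = 0 := hI Z _ fun s => by
    rw [← Category.assoc]
    exact hf _
  have h4 : (DCoh.tensorRightMod P).map (incl (le_sup_right : J ≤ I ⊔ J)) ≫ f = 0 := hJ Z _ fun s => by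
    rw [← Category.assoc]
    exact hf _
  have h5 := epi_desc (I := I) (J := J)
  have h6 := (DCoh.tensorRightMod P).map_epi
    (coprod.desc (incl (le_sup_left : I ≤ I ⊔ J)) (incl (le_sup_right : J ≤ I ⊔ J)))
  rw [← cancel_epi ((DCoh.tensorRightMod P).map
    (coprod.desc (incl (le_sup_left : I ≤ I ⊔ J)) (incl (le_sup_right : J ≤ I ⊔ J)))), comp_zero]
  refine (isColimitOfPreserves (DCoh.tensorRightMod P)
    (coprodIsCoprod (ClSub.idealMod I) (ClSub.idealMod J))).hom_ext fun k => ?_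
  rcases k with ⟨⟨⟩⟩
  · have e : (DCoh.tensorRightMod P).map (coprod.inl : ClSub.idealMod I ⟶ ClSub.idealMod I ⨿ ClSub.idealMod J) ≫ (DCoh.tensorRightMod P).map
        (coprod.desc (incl (le_sup_left : I ≤ I ⊔ J)) (incl (le_sup_right : J ≤ I ⊔ J))) ≫ f =
        (DCoh.tensorRightMod P).map (coprod.inl : ClSub.idealMod I ⟶ ClSub.idealMod I ⨿ ClSub.idealMod J) ≫ 0 := by
      rw [← Category.assoc, ← Functor.map_comp, coprod.inl_desc, h3, comp_zero]
    exact e
  · have e : (DCoh.tensorRightMod P).map (coprod.inr : ClSub.idealMod J ⟶ ClSub.idealMod I ⨿ ClSub.idealMod J) ≫ (DCoh.tensorRightMod P).map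
        (coprod.desc (incl (le_sup_left : I ≤ I ⊔ J)) (incl (le_sup_right : J ≤ I ⊔ J))) ≫ f =
        (DCoh.tensorRightMod P).map (coprod.inr : ClSub.idealMod J ⟶ ClSub.idealMod I ⨿ ClSub.idealMod J) ≫ 0 := by
      rw [← Category.assoc, ← Functor.map_comp, coprod.inr_desc, h4, comp_zero]
    exact e

/-- **(G3)** -/
theorem g3 (L : X.Modules) (I J : X.IdealSheafData) (a : ℕ) (hI : GG L a I) (hJ : GG L a J) : GG L a (I ⊔ J) :=
  Variety.K431.GGTensor.of_epi (Ega2.Tens.swap _ _).hom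
    (sup (Variety.K431.GGTensor.of_epi (Ega2.Tens.swap _ _).hom hI)
      (Variety.K431.GGTensor.of_epi (Ega2.Tens.swap _ _).hom hJ))

end K268.PG3
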